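import Mathlib
import Cfsg.Agent.Lib.Helper18.Transfer

set_option autoImplicit false

namespace Cfsg.Agent.H5Fus

open MulAction Subgroup Cfsg.Agent.Lib.Helper18

/-- Refined Thompson transfer: a central involution `z` of a Sylow 2-subgroup `S`, none of whose
`N_G(S)`-conjugates lies in the maximal subgroup `M` of `S`, lies outside a normal subgroup of index 2. -/
theorem refined_transfer {G : Type*} [Group G] [Finite G] (S : Sylow 2 G) (M : Subgroup G)
    (hM : M.relIndex (S : Subgroup G) = 2) (z : G) (hz2 : z ^ 2 = 1) (hzS : z ∈ (S : Subgroup G))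
    (hzc : ∀ s ∈ (S : Subgroup G), s * z = z * s)
    (hN : ∀ g ∈ Subgroup.normalizer ((S : Subgroup G) : Set G), g⁻¹ * z * g ∉ M) :
    ∃ N : Subgroup G, N.Normal ∧ N.index = 2 ∧ z ∉ N := by
  classical
  have h2 : (M.subgroupOf (S : Subgroup G)).index = 2 := hM
  set ϕ := signOfIndexTwo (M.subgroupOf (S : Subgroup G)) h2 with hϕ
  have hMconj : ∀ s ∈ (S : Subgroup G), ∀ x ∈ (S : Subgroup G), x ∉ M → s⁻¹ * x * s ∉ M := by
    intro s hs x hx hxM hcon
    have hmem : s⁻¹ * x * s ∈ (S : Subgroup G) :=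
      (S : Subgroup G).mul_mem ((S : Subgroup G).mul_mem ((S : Subgroup G).inv_mem hs) hx) hs
    have e1 : ϕ ⟨s⁻¹ * x * s, hmem⟩ = ϕ ⟨x, hx⟩ := by
      have : (⟨s⁻¹ * x * s, hmem⟩ : (S : Subgroup G)) = ⟨s, hs⟩⁻¹ * ⟨x, hx⟩ * ⟨s, hs⟩ := rfl
      rw [this, map_mul, map_mul, map_inv, mul_comm, ← mul_assoc, mul_inv_cancel, one_mul]
    rw [signOfIndexTwo_of_mem _ _ (Subgroup.mem_subgroupOf.mpr hcon),
      signOfIndexTwo_of_not_mem _ _ (fun h => hxM (Subgroup.mem_subgroupOf.mp h))] at e1
    exact absurd e1 (by decide)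
  let T : Set (G ⧸ (S : Subgroup G)) := {c | ∃ g : G, (g : G ⧸ (S : Subgroup G)) = c ∧
    g⁻¹ * z * g ∈ (S : Subgroup G) ∧ g⁻¹ * z * g ∉ M}
  have hTrep : ∀ g : G, ((g : G ⧸ (S : Subgroup G)) ∈ T) →
      g⁻¹ * z * g ∈ (S : Subgroup G) ∧ g⁻¹ * z * g ∉ M := by
    rintro g ⟨g', hg', h1, h3⟩
    have hs : g'⁻¹ * g ∈ (S : Subgroup G) := QuotientGroup.eq.mp hg'
    have e : g⁻¹ * z * g = (g'⁻¹ * g)⁻¹ * (g'⁻¹ * z * g') * (g'⁻¹ * g) := by group
    rw [e]
    exact ⟨(S : Subgroup G).mul_mem ((S : Subgroup G).mul_mem ((S : Subgroup G).inv_mem hs) h1) hs,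
      hMconj _ hs _ h1 h3⟩
  have hfix : ∀ g : G, z • (g : G ⧸ (S : Subgroup G)) = g ↔ g⁻¹ * z * g ∈ (S : Subgroup G) := by
    intro g
    rw [eq_comm, MulAction.Quotient.smul_coe, QuotientGroup.eq, smul_eq_mul, mul_assoc]
  have key1 : ∀ (k : ℕ) (g : G) (hmem : g⁻¹ * z ^ k * g ∈ (S : Subgroup G)), k = 2 →
      ϕ ⟨_, hmem⟩ = 1 := by
    rintro k g hmem rfl
    have : (⟨g⁻¹ * z ^ 2 * g, hmem⟩ : (S : Subgroup G)) = 1 := Subtype.ext (by simp [hz2])
    rw [this, map_one]
  have key2 : ∀ (k : ℕ) (g : G) (hmem : g⁻¹ * z ^ k * g ∈ (S : Subgroup G)), k = 1 →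
      ((g : G ⧸ (S : Subgroup G)) ∈ T) → ϕ ⟨_, hmem⟩ = -1 := by
    rintro k g hmem rfl hT
    apply signOfIndexTwo_of_not_mem
    rw [Subgroup.mem_subgroupOf]
    have := (hTrep g hT).2
    simpa using this
  have key3 : ∀ (k : ℕ) (g : G) (hmem : g⁻¹ * z ^ k * g ∈ (S : Subgroup G)), k = 1 →
      ((g : G ⧸ (S : Subgroup G)) ∉ T) → ϕ ⟨_, hmem⟩ = 1 := by
    rintro k g hmem rfl hT
    apply signOfIndexTwo_of_mem
    rw [Subgroup.mem_subgroupOf]
    by_contra hcon
    apply hT
    refine ⟨g, rfl, ?_, ?_⟩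
    · simpa using hmem
    · simpa using hcon
  -- parity of T
  let T' : SubMulAction (S : Subgroup G) (G ⧸ (S : Subgroup G)) :=
    { carrier := T
      smul_mem' := by
        rintro s _ ⟨g, rfl, h1, h3⟩
        refine ⟨(s : G) * g, rfl, ?_, ?_⟩
        · have e : ((s : G) * g)⁻¹ * z * ((s : G) * g) = g⁻¹ * z * g := by
            have := hzc s s.2
            calc ((s : G) * g)⁻¹ * z * ((s : G) * g) = g⁻¹ * (s : G)⁻¹ * (z * (s : G)) * g := by group
              _ = g⁻¹ * (s : G)⁻¹ * ((s : G) * z) * g := by rw [this]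
              _ = g⁻¹ * z * g := by group
          rw [e]; exact h1
        · have e : ((s : G) * g)⁻¹ * z * ((s : G) * g) = g⁻¹ * z * g := by
            have := hzc s s.2
            calc ((s : G) * g)⁻¹ * z * ((s : G) * g) = g⁻¹ * (s : G)⁻¹ * (z * (s : G)) * g := by group
              _ = g⁻¹ * (s : G)⁻¹ * ((s : G) * z) * g := by rw [this]
              _ = g⁻¹ * z * g := by group
          rw [e]; exact h3 }
  have hfixT : ∀ c : G ⧸ (S : Subgroup G), c ∈ fixedPoints (S : Subgroup G) (G ⧸ (S : Subgroup G)) →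
      c ∈ T := by
    intro c hc
    obtain ⟨g, rfl⟩ := QuotientGroup.mk_surjective c
    have hg : g ∈ Subgroup.normalizer ((S : Subgroup G) : Set G) :=
      Sylow.mem_fixedPoints_mul_left_cosets_iff_mem_normalizer.mp hc
    refine ⟨g, rfl, ?_, hN g hg⟩
    have hg' := (Subgroup.normalizer ((S : Subgroup G) : Set G)).inv_mem hg
    have := (Subgroup.mem_normalizer_iff.mp hg' z).mp hzS
    simpa using this
  have m1 := S.2.card_modEq_card_fixedPoints T'
  have m2 := S.2.card_modEq_card_fixedPoints (G ⧸ (S : Subgroup G))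
  have e3 : Nat.card (fixedPoints (S : Subgroup G) T') =
      Nat.card (fixedPoints (S : Subgroup G) (G ⧸ (S : Subgroup G))) := by
    apply Nat.card_congr
    refine Equiv.ofBijective (fun x => ⟨x.1.1, fun s => congrArg Subtype.val (x.2 s)⟩) ⟨?_, ?_⟩
    · intro x y hxy
      apply Subtype.ext
      apply Subtype.ext
      exact congrArg (fun t : fixedPoints (S : Subgroup G) (G ⧸ (S : Subgroup G)) => t.1) hxy
    · intro y
      exact ⟨⟨⟨y.1, hfixT y.1 y.2⟩, fun s => Subtype.ext (y.2 s)⟩, rfl⟩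
  have hTodd : Odd (Nat.card T) := by
    have hodd : Odd (S : Subgroup G).index := by
      rw [← Nat.not_even_iff_odd, even_iff_two_dvd]
      exact S.not_dvd_index
    have h5 : Nat.card T' ≡ (S : Subgroup G).index [MOD 2] := by
      rw [Subgroup.index_eq_card]
      exact m1.trans (e3 ▸ m2.symm)
    have h6 : Nat.card T' = Nat.card T := rfl
    rw [← h6, Nat.odd_iff, h5, ← Nat.odd_iff]
    exact hodd
  have hV : MonoidHom.transfer ϕ z = -1 := by
    let _ : Fintype (Quotient (orbitRel (zpowers z) (G ⧸ (S : Subgroup G)))) := Fintype.ofFinite _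
    rw [MonoidHom.transfer_eq_prod_quotient_orbitRel_zpowers_quot]
    have hv : ∀ q : Quotient (orbitRel (zpowers z) (G ⧸ (S : Subgroup G))),
        ϕ ⟨q.out.out⁻¹ * z ^ Function.minimalPeriod (z • ·) q.out * q.out.out,
            QuotientGroup.out_conj_pow_minimalPeriod_mem (S : Subgroup G) z q.out⟩ =
          if q.out ∈ T then -1 else 1 := by
      intro q
      have hout : ((q.out.out : G) : G ⧸ (S : Subgroup G)) = q.out := QuotientGroup.out_eq' _
      by_cases hT : q.out ∈ T
      · rw [if_pos hT]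
        apply key2
        · rw [Function.minimalPeriod_eq_one_iff_isFixedPt]
          show z • q.out = q.out
          have hT' : ((q.out.out : G) : G ⧸ (S : Subgroup G)) ∈ T := by rw [hout]; exact hT
          have := (hfix q.out.out).mpr (hTrep _ hT').1
          rwa [hout] at this
        · rw [hout]; exact hT
      · rw [if_neg hT]
        by_cases hz : z • q.out = q.out
        · apply key3
          · rw [Function.minimalPeriod_eq_one_iff_isFixedPt]
            exact hz
          · rw [hout]; exact hT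
        · apply key1
          have hd : Function.minimalPeriod (z • ·) q.out ∣ 2 := by
            apply Function.IsPeriodicPt.minimalPeriod_dvd
            show (z • ·)^[2] q.out = q.out
            rw [smul_iterate, hz2]
            exact one_smul _ _
          rcases (Nat.dvd_prime Nat.prime_two).mp hd with h | h
          · exact absurd (Function.minimalPeriod_eq_one_iff_isFixedPt.mp h) hz
          · exact h
    rw [Finset.prod_congr rfl (fun q _ => hv q), Finset.prod_ite, Finset.prod_const,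
      Finset.prod_const_one, mul_one]
    apply Odd.neg_one_pow
    have e1 : (Finset.univ.filter (fun q : Quotient (orbitRel (zpowers z) (G ⧸ (S : Subgroup G))) =>
        q.out ∈ T)).card = Nat.card T := by
      rw [← Fintype.card_subtype, ← Nat.card_eq_fintype_card]
      apply Nat.card_congr
      refine Equiv.ofBijective (fun q => ⟨q.1.out, q.2⟩) ⟨?_, ?_⟩
      · intro x y hxy
        apply Subtype.ext
        exact Quotient.out_injective (congrArg Subtype.val hxy)
      · rintro ⟨c, hc⟩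
        have hzc' : z • c = c := by
          obtain ⟨g, rfl⟩ := QuotientGroup.mk_surjective c
          exact (hfix g).mpr (hTrep g hc).1
        have hq : (Quotient.mk (orbitRel (zpowers z) (G ⧸ (S : Subgroup G))) c).out = c := by
          have h7 := Quotient.mk_out (s := orbitRel (zpowers z) (G ⧸ (S : Subgroup G))) c
          obtain ⟨⟨k, hk⟩, hk2⟩ := h7
          obtain ⟨n, rfl⟩ := Subgroup.mem_zpowers_iff.mp hk
          rw [← hk2]
          show z ^ n • c = c
          exact MulAction.zpow_smul_eq_iff_period_dvd.mpr (by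
            have : MulAction.period z c = 1 := by
              rw [MulAction.period_eq_one_iff]; exact hzc'
            rw [this]; simp)
        exact ⟨⟨Quotient.mk _ c, by rw [hq]; exact hc⟩, Subtype.ext hq⟩
    rw [e1]
    exact hTodd
  refine ⟨(MonoidHom.transfer ϕ).ker, inferInstance, index_ker_eq_two_of_apply_eq_neg_one _ z hV, ?_⟩
  rw [MonoidHom.mem_ker, hV]
  decide

end Cfsg.Agent.H5Fus
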