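import Mathlib
import Cfsg.Agent.H5.PrimeDeg2
import Cfsg.Agent.H5.MultTrans
import Cfsg.Agent.H5.Fisher

/-!
Helper library (helper5): transitive permutation groups of prime degree, part 3.
-/

set_option autoImplicit false

namespace Cfsg.Agent.H5PrimeDeg

open MulAction SubMulAction

variable {p : ℕ} [Fact p.Prime] {α : Type*} [Fintype α] [DecidableEq α]

/-- a solvable transitive group of prime degree has a normal Sylow `p`-subgroup -/
theorem sylow_normal_of_solvable (hα : Fintype.card α = p) (G : Subgroup (Equiv.Perm α))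
    [IsPretransitive G α] (hs : Group.IsSolvable G) (P : Sylow p G) : (P : Subgroup G).Normal := by
  classical
  have hp : p.Prime := Fact.out
  haveI : Nonempty α := Fintype.card_pos_iff.mp (by rw [hα]; exact hp.pos)
  obtain ⟨a₀⟩ : Nonempty α := inferInstance
  have hex : ∃ n, derivedSeries G n = ⊥ := (Group.isSolvable_def G).mp hs
  have hn := Nat.find_spec hex
  have hmin := fun m => Nat.find_min hex (m := m)
  have hGnt : (⊤ : Subgroup G) ≠ ⊥ := by
    intro h
    have h1 := dvd_card hα G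
    have h2 : Nat.card G = 1 := by
      rw [← Subgroup.card_top, h, Subgroup.card_bot]
    rw [h2] at h1
    exact hp.one_lt.ne' (Nat.dvd_one.mp h1)
  obtain ⟨m, hm⟩ : ∃ m, Nat.find hex = m + 1 := by
    rcases Nat.eq_zero_or_pos (Nat.find hex) with h | h
    · rw [h, derivedSeries_zero] at hn
      exact absurd hn hGnt
    · exact ⟨Nat.find hex - 1, by omega⟩
  obtain ⟨A, hA⟩ : ∃ A, A = derivedSeries G m := ⟨_, rfl⟩
  have hAne : A ≠ ⊥ := by
    rw [hA]
    exact hmin m (by omega)
  haveI hAn : A.Normal := by rw [hA]; exact derivedSeries_normal G m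
  have hAc : ∀ x y : A, x * y = y * x := by
    rw [hm, derivedSeries_succ, ← hA, Subgroup.commutator_eq_bot_iff_le_centralizer] at hn
    intro x y
    apply Subtype.ext
    exact ((Subgroup.mem_centralizer_iff.mp (hn x.2)) y y.2).symm
  have hprim : IsPreprimitive G α :=
    IsPreprimitive.of_prime_card (by rw [Nat.card_eq_fintype_card, hα]; exact hp)
  haveI hAt : IsPretransitive A α := Cfsg.Agent.H5MultTrans.normal_trans hprim A hAne
  haveI : FaithfulSMul A α :=
    ⟨fun {m n} h => Subtype.ext (FaithfulSMul.eq_of_smul_eq_smul (α := α) h)⟩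
  have hreg := Cfsg.Agent.H5MultTrans.abelian_reg (G := A) (X := α) hAc a₀
  have hAcard : Nat.card A = p := by
    have h1 := MulAction.index_stabilizer_of_transitive A a₀
    rw [hreg, Subgroup.index_bot, Nat.card_eq_fintype_card (α := α), hα] at h1
    exact h1
  have hApg : IsPGroup p A := IsPGroup.of_card (n := 1) (by rw [hAcard, pow_one])
  obtain ⟨Q, hQ⟩ := hApg.exists_le_sylow
  have hAQ : A = Q := Subgroup.eq_of_le_of_card_ge hQ (by rw [sylow_card hα G Q, hAcard])
  have hQn : (Q : Subgroup G).Normal := hAQ ▸ hAn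
  letI := Sylow.unique_of_normal Q hQn
  have : P = Q := Subsingleton.elim _ _
  rw [this]
  exact hQn

theorem not_dvd_of_index (hα : Fintype.card α = p) (G : Subgroup (Equiv.Perm α))
    [IsPretransitive G α] (H : Subgroup G) (hH : H.index = p) : ¬ p ∣ Nat.card H := by
  have hp : p.Prime := Fact.out
  intro h
  obtain ⟨P⟩ : Nonempty (Sylow p G) := inferInstance
  have h1 : p ^ 2 ∣ Nat.card G := by
    rw [← Subgroup.card_mul_index H, hH, pow_two]
    exact Nat.mul_dvd_mul_right h p
  have h2 := P.pow_dvd_card_of_pow_dvd_card h1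
  rw [sylow_card hα G P, pow_two] at h2
  have := Nat.le_of_dvd hp.pos h2
  have h3 := hp.two_le
  nlinarith

theorem exists_small_orbit {L Z : Type*} [Group L] [Finite L] [MulAction L Z] [Finite Z]
    (hZ : Nat.card Z = p) (hp3 : 3 ≤ p) (hL : ¬ p ∣ Nat.card L) :
    ∃ ω : Z, (orbit L ω).ncard < p - 1 := by
  by_contra hcon
  push Not at hcon
  haveI : Nonempty Z := by
    rw [← Finite.card_pos_iff, hZ]; omega
  obtain ⟨ω₁⟩ : Nonempty Z := inferInstance
  obtain ⟨ω₂, hω₂⟩ : ∃ ω₂, ω₂ ∉ orbit L ω₁ := by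
    by_contra h
    push Not at h
    apply hL
    have h1 : orbit L ω₁ = Set.univ := Set.eq_univ_iff_forall.mpr h
    have h2 := MulAction.index_stabilizer L ω₁
    rw [h1, Set.ncard_univ, hZ] at h2
    rw [← h2]
    exact Subgroup.index_dvd_card _
  have hdisj : Disjoint (orbit L ω₁) (orbit L ω₂) := by
    rw [Set.disjoint_left]
    rintro z ⟨l₁, rfl⟩ ⟨l₂, h⟩
    apply hω₂
    refine ⟨l₂⁻¹ * l₁, ?_⟩
    change (l₂⁻¹ * l₁) • ω₁ = ω₂
    have h' : l₂ • ω₂ = l₁ • ω₁ := h
    rw [mul_smul, ← h', inv_smul_smul]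
  have h1 := Set.ncard_union_eq hdisj (Set.toFinite _) (Set.toFinite _)
  have h2 : (orbit L ω₁ ∪ orbit L ω₂).ncard ≤ Nat.card Z := by
    rw [← Set.ncard_univ]
    exact Set.ncard_le_ncard (Set.subset_univ _) (Set.toFinite _)
  have h3 := hcon ω₁
  have h4 := hcon ω₂
  omega

/-- in a 3-transitive group of prime degree, a subgroup of index `p` fixes a point -/
theorem fixes_of_three_trans (hα : Fintype.card α = p) (hp3 : 3 ≤ p) (G : Subgroup (Equiv.Perm α))
    (h3 : IsMultiplyPretransitive G α 3) (H : Subgroup G) (hH : H.index = p) :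
    ∃ a : α, H ≤ stabilizer G a := by
  classical
  have hp : p.Prime := Fact.out
  haveI : Nonempty α := Fintype.card_pos_iff.mp (by rw [hα]; exact hp.pos)
  obtain ⟨a₀⟩ : Nonempty α := inferInstance
  haveI htr : IsPretransitive G α := by
    rw [← is_one_pretransitive_iff]
    exact isMultiplyPretransitive_of_le (n := 3) (by norm_num)
      (by rw [Nat.card_eq_fintype_card, hα]; exact hp3)
  have hidx : (stabilizer G a₀).index = p := by
    rw [MulAction.index_stabilizer_of_transitive, Nat.card_eq_fintype_card, hα]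
  have hL := not_dvd_of_index hα G (stabilizer G a₀) hidx
  have hZ : Nat.card (G ⧸ H) = p := hH
  obtain ⟨ω, hω⟩ := exists_small_orbit (L := stabilizer G a₀) (Z := G ⧸ H) hZ hp3 hL
  have h2 : IsMultiplyPretransitive (stabilizer G a₀) (ofStabilizer G a₀) 2 :=
    (ofStabilizer.isMultiplyPretransitive (a := a₀)).mp h3
  letI : Fintype (ofStabilizer G a₀) := Fintype.ofFinite _
  letI : Fintype (orbit (stabilizer G a₀) ω) := Fintype.ofFinite _
  have hcard : Fintype.card (orbit (stabilizer G a₀) ω) < Fintype.card (ofStabilizer G a₀) := by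
    rw [← Nat.card_eq_fintype_card, ← Nat.card_eq_fintype_card, nat_card_ofStabilizer_eq,
      Nat.card_eq_fintype_card (α := α), hα]
    exact hω
  have key : ∀ x x' : α, x ≠ a₀ → x' ≠ a₀ → ∃ l : G, l • a₀ = a₀ ∧ l • ω = ω ∧ l • x = x' := by
    intro x x' hx hx'
    obtain ⟨l, h4, h5⟩ := Cfsg.Agent.H5Fisher.stab_trans h2 hcard
      (⟨ω, mem_orbit_self ω⟩ : orbit (stabilizer G a₀) ω) (⟨x, hx⟩ : ofStabilizer G a₀) ⟨x', hx'⟩
    exact ⟨l.1, l.2, congrArg Subtype.val h5, congrArg Subtype.val h4⟩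
  -- the stabiliser of `ω` fixes `a₀`
  have hidx' : (stabilizer G ω).index = p := by
    rw [MulAction.index_stabilizer_of_transitive]
    exact hZ
  have hH' := not_dvd_of_index hα G (stabilizer G ω) hidx'
  have hfix : stabilizer G ω ≤ stabilizer G a₀ := by
    intro h' hh'
    by_contra hcon
    have hcon' : h' • a₀ ≠ a₀ := hcon
    apply hH'
    have h4 : orbit (stabilizer G ω) a₀ = Set.univ := by
      rw [Set.eq_univ_iff_forall]
      intro x
      by_cases hx : x = a₀
      · rw [hx]; exact mem_orbit_self _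
      · obtain ⟨l, -, hlω, hlx⟩ := key (h' • a₀) x hcon' hx
        refine ⟨⟨l * h', (stabilizer G ω).mul_mem hlω hh'⟩, ?_⟩
        change (l * h') • a₀ = x
        rw [mul_smul, hlx]
    have h5 := MulAction.index_stabilizer (stabilizer G ω) a₀
    rw [h4, Set.ncard_univ, Nat.card_eq_fintype_card, hα] at h5
    rw [← h5]
    exact Subgroup.index_dvd_card _
  obtain ⟨g, rfl⟩ := QuotientGroup.mk_surjective ω
  refine ⟨g⁻¹ • a₀, ?_⟩
  intro h hh
  have h4 : g * h * g⁻¹ ∈ stabilizer G ((g : G ⧸ H)) := by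
    change (g * h * g⁻¹) • (g : G ⧸ H) = g
    rw [MulAction.Quotient.smul_coe, smul_eq_mul, inv_mul_cancel_right, QuotientGroup.eq]
    simpa using H.inv_mem hh
  have h5 : (g * h * g⁻¹) • a₀ = a₀ := hfix h4
  change h • g⁻¹ • a₀ = g⁻¹ • a₀
  rw [mul_smul, mul_smul] at h5
  rw [eq_inv_smul_iff]
  exact h5

end Cfsg.Agent.H5PrimeDeg
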