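import Mathlib

namespace Cfsg.Agent.H5SylConj

/-- A `p`-subgroup `R` of `M` is contained in an `M`-conjugate of any Sylow `p`-subgroup of `G` lying in `M`. -/
theorem conj_into {G : Type*} [Group G] [Finite G] {p : ℕ} [Fact p.Prime] (M : Subgroup G)
    (P : Sylow p G) (hP : (P : Subgroup G) ≤ M) (R : Subgroup G) (hRM : R ≤ M) (hR : IsPGroup p R) :
    ∃ m ∈ M, ∀ r ∈ R, m⁻¹ * r * m ∈ (P : Subgroup G) := by
  let P' : Sylow p M := P.subtype hP
  have hR' : IsPGroup p (R.subgroupOf M) := hR.comap_subtype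
  obtain ⟨Q, hQ⟩ := hR'.exists_le_sylow
  obtain ⟨m, hm⟩ := MulAction.exists_smul_eq M P' Q
  refine ⟨m.1, m.2, fun r hr => ?_⟩
  have h1 : (⟨r, hRM hr⟩ : M) ∈ (Q : Subgroup M) := hQ (by simpa [Subgroup.mem_subgroupOf] using hr)
  rw [← hm, Sylow.coe_subgroup_smul, Subgroup.mem_pointwise_smul_iff_inv_smul_mem, MulAut.smul_def,
    MulAut.conj_inv_apply] at h1
  have h2 : m⁻¹ * (⟨r, hRM hr⟩ : M) * m ∈ (P : Subgroup G).subgroupOf M := by
    rw [← Sylow.coe_subtype]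
    exact h1
  rw [Subgroup.mem_subgroupOf] at h2
  simpa using h2

theorem mem_smul_sylow {G : Type*} [Group G] {p : ℕ} (P : Sylow p G) (m r : G) :
    r ∈ ((m • P : Sylow p G) : Subgroup G) ↔ m⁻¹ * r * m ∈ (P : Subgroup G) := by
  rw [Sylow.coe_subgroup_smul, Subgroup.mem_pointwise_smul_iff_inv_smul_mem, MulAut.smul_def,
    MulAut.conj_inv_apply]

end Cfsg.Agent.H5SylConj
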