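import Mathlib
import Cfsg.Agent.H5.MultTrans

/-!
Helper library (helper5): `2 p + 1` is not a Sylow `p`-number when `5` exactly divides `2 p + 1`.
-/

set_option autoImplicit false

namespace Cfsg.Agent.H5SylowNum

open MulAction Cfsg.Agent.H5MultTrans
open scoped Pointwise

theorem mem_of_coprime_index {H : Type*} [Group H] (K : Subgroup H) [K.Normal] (x : H)
    (h : Nat.Coprime K.index (orderOf x)) : x ∈ K := by
  obtain ⟨m, hm⟩ := exists_pow_eq_self_of_coprime h
  rw [← hm]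
  exact K.pow_mem (K.pow_index_mem x) m

section perm

variable {Ω : Type*} [Fintype Ω] [DecidableEq Ω]

theorem dvd_support_of_prime_order {σ : Equiv.Perm Ω} {r : ℕ} (hr : r.Prime) (hσ : orderOf σ = r) :
    r ∣ σ.support.card ∧ 0 < σ.support.card := by
  obtain ⟨n, hn⟩ := Equiv.Perm.cycleType_prime_order (σ := σ) (by rw [hσ]; exact hr)
  have hsum := Equiv.Perm.sum_cycleType σ
  rw [hn, Multiset.sum_replicate, smul_eq_mul, hσ] at hsum
  rw [← hsum]
  exact ⟨Dvd.intro_left _ rfl, Nat.mul_pos (Nat.succ_pos n) hr.pos⟩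

theorem sign_of_invol {σ : Equiv.Perm Ω} (hσ : orderOf σ = 2) {k : ℕ} (hk : σ.support.card = 2 * k) :
    Equiv.Perm.sign σ = (-1) ^ k := by
  obtain ⟨n, hn⟩ := Equiv.Perm.cycleType_prime_order (σ := σ) (by rw [hσ]; exact Nat.prime_two)
  have hsum := Equiv.Perm.sum_cycleType σ
  rw [hn, Multiset.sum_replicate, smul_eq_mul, hσ, hk] at hsum
  have hnk : n + 1 = k := by omega
  rw [Equiv.Perm.sign_of_cycleType, hn, Multiset.sum_replicate, Multiset.card_replicate, smul_eq_mul, hσ,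
    hnk, pow_add, mul_comm k 2, pow_mul]
  simp

/-- If `x ^ p = 1`, `x` commutes with `c` and `x` moves every point moved by `c`, then `p` divides the
size of the support of `c`. -/
theorem dvd_support_of_commute {p : ℕ} [Fact p.Prime] {x c : Equiv.Perm Ω} (hx : x ^ p = 1)
    (hc : x * c = c * x) (hmv : ∀ y, c y ≠ y → x y ≠ y) : p ∣ c.support.card := by
  have hinv : ∀ y, (c (x y) ≠ x y) ↔ (c y ≠ y) := by
    intro y
    have h1 : c (x y) = x (c y) := by
      have := congrArg (fun f : Equiv.Perm Ω => f y) hc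
      simpa using this.symm
    rw [h1]
    exact not_congr x.injective.eq_iff
  let f : Equiv.Perm {y // c y ≠ y} := x.subtypePerm hinv
  let F : Function.End {y // c y ≠ y} := fun y => f y
  have hf : F ^ p ^ 1 = 1 := by
    rw [pow_one]
    have h1 : f ^ p = 1 := by
      ext y
      simp only [f, Equiv.Perm.subtypePerm_pow, hx]
      simp
    funext y
    have h2 := congrArg (fun g : Equiv.Perm {y // c y ≠ y} => g y) h1
    have h3 : ∀ (n : ℕ) (z : {y // c y ≠ y}), (F ^ n) z = (f ^ n) z := by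
      intro n
      induction n with
      | zero => intro z; rfl
      | succ n ih =>
        intro z
        rw [pow_succ, pow_succ]
        change (F ^ n) (f z) = (f ^ n) (f z)
        exact ih _
    rw [h3]
    exact h2
  have h := Equiv.Perm.card_fixedPoints_modEq hf
  have hemp : IsEmpty (Function.fixedPoints F) := by
    constructor
    rintro ⟨⟨y, hy⟩, hfy⟩
    exact hmv y hy (congrArg Subtype.val hfy)
  rw [Fintype.card_eq_zero (α := Function.fixedPoints F)] at h
  have hcard : Fintype.card {y // c y ≠ y} = c.support.card := by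
    rw [Fintype.card_subtype]
    congr 1
  rw [← hcard]
  exact (Nat.modEq_zero_iff_dvd).mp h

/-- The configuration: `H` transitive of degree `2 p + 1`, `P` a `p`-subgroup with a unique fixed point
`α`, normalised by the stabiliser of `α`. -/
structure Cfg (p : ℕ) (P H : Subgroup (Equiv.Perm Ω)) (α : Ω) : Prop where
  card : Fintype.card Ω = 2 * p + 1
  pg : IsPGroup p P
  le : P ≤ H
  fixα : ∀ x ∈ P, x α = α
  only : ∀ β, (∀ x ∈ P, x β = β) → β = α
  trans : ∀ β γ : Ω, ∃ h ∈ H, h β = γ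
  norm : ∀ h ∈ H, h α = α → ∀ x ∈ P, h * x * h⁻¹ ∈ P

variable {p : ℕ} [hp : Fact p.Prime] {P H : Subgroup (Equiv.Perm Ω)} {α : Ω}

theorem Cfg.pretrans (c : Cfg p P H α) : IsPretransitive H Ω :=
  ⟨fun β γ => by obtain ⟨h, hh, e⟩ := c.trans β γ; exact ⟨⟨h, hh⟩, e⟩⟩

theorem Cfg.prim (c : Cfg p P H α) : IsPreprimitive H Ω := by
  have := c.pretrans
  apply IsPreprimitive.of_isTrivialBlock_base α
  intro B hαB hB
  have hPB : ∀ x : P, ∀ b ∈ B, x • b ∈ B := by
    intro x b hb
    have h1 : (⟨x.1, c.le x.2⟩ : H) • B = B := by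
      apply hB.smul_eq_of_mem hαB
      change x.1 α ∈ B
      rw [c.fixα x.1 x.2]
      exact hαB
    rw [← h1]
    exact Set.smul_mem_smul_set (a := (⟨x.1, c.le x.2⟩ : H)) hb
  let B' : SubMulAction P Ω := { carrier := B, smul_mem' := fun x b hb => hPB x b hb }
  have h1 := c.pg.card_modEq_card_fixedPoints B'
  have h2 : Nat.card (fixedPoints P B') = 1 := by
    rw [Nat.card_eq_one_iff_unique]
    refine ⟨⟨?_⟩, ⟨⟨⟨α, hαB⟩, fun x => Subtype.ext (c.fixα x.1 x.2)⟩⟩⟩
    rintro ⟨⟨a, ha⟩, ha'⟩ ⟨⟨b, hb⟩, hb'⟩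
    have e1 : a = α := c.only a (fun x hx => congrArg Subtype.val (ha' ⟨x, hx⟩))
    have e2 : b = α := c.only b (fun x hx => congrArg Subtype.val (hb' ⟨x, hx⟩))
    subst e1 e2
    rfl
  have h3 : Nat.card B' = B.ncard := Nat.card_coe_set_eq B
  rw [h2, h3] at h1
  have h4 := hB.ncard_dvd_card ⟨α, hαB⟩
  rw [Nat.card_eq_fintype_card, c.card] at h4
  have h5 : B.ncard ≤ 2 * p + 1 := Nat.le_of_dvd (by omega) h4
  have h6 : 1 ≤ B.ncard := by
    rw [Nat.one_le_iff_ne_zero]
    exact Set.ncard_ne_zero_of_mem hαB (Set.toFinite _)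
  obtain ⟨k, hk⟩ : p ∣ B.ncard - 1 := (Nat.modEq_iff_dvd' h6).mp h1.symm
  have hp1 := hp.out.one_lt
  have hk' : B.ncard = p * k + 1 := by omega
  have hk2 : k ≤ 2 := by
    by_contra hcon
    have : p * 3 ≤ p * k := Nat.mul_le_mul_left p (by omega)
    omega
  interval_cases k
  · left
    rw [← Set.ncard_le_one_iff_subsingleton]
    omega
  · exfalso
    rw [hk'] at h4
    have h7 : p * 1 + 1 ∣ 2 * (p * 1 + 1) := Dvd.intro_left _ rfl
    have h8 := (Nat.dvd_sub h7 h4)
    have h9 : 2 * (p * 1 + 1) - (2 * p + 1) = 1 := by omega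
    rw [h9, Nat.dvd_one] at h8
    omega
  · right
    apply Set.eq_of_subset_of_ncard_le (Set.subset_univ _) _ (Set.toFinite _)
    rw [Set.ncard_univ, Nat.card_eq_fintype_card, c.card]
    omega

/-- `H` contains no `p`-cycle. -/
theorem Cfg.no_cycle (c : Cfg p P H α) (hp2 : p ≠ 2) (g : Equiv.Perm Ω) (hg : g ∈ H) (hgc : g.IsCycle)
    (hgp : g.support.card = p) : False := by
  have hp1 := hp.out.one_lt
  have hcardΩ : Nat.card Ω = 2 * p + 1 := by rw [Nat.card_eq_fintype_card, c.card]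
  have hJ : IsMultiplyPreprimitive H Ω (p + 2) := by
    apply c.prim.isMultiplyPreprimitive (s := (g.supportᶜ : Set Ω))
    · apply Nat.add_left_cancel (n := (g.support : Set Ω).ncard)
      rw [Set.ncard_add_ncard_compl, Set.ncard_coe_finset, hgp, hcardΩ]
      omega
    · rw [hcardΩ]; omega
    · have := Equiv.Perm.isPretransitive_of_isCycle_mem hgc hg
      apply IsPreprimitive.of_prime_card
      convert hp.out
      have e : ((SubMulAction.ofFixingSubgroup H (g.supportᶜ : Set Ω)) : Set Ω) = (g.support : Set Ω) := by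
        ext x
        simp [SubMulAction.mem_ofFixingSubgroup_iff]
      have e2 : Nat.card (SubMulAction.ofFixingSubgroup H (g.supportᶜ : Set Ω)) =
          ((SubMulAction.ofFixingSubgroup H (g.supportᶜ : Set Ω)) : Set Ω).ncard := Nat.card_coe_set_eq _
      rw [e2, e, Set.ncard_coe_finset, hgp]
  have hT : IsMultiplyPretransitive H Ω (p + 2) := IsMultiplyPreprimitive.isMultiplyPretransitive ..
  have h3 : IsMultiplyPretransitive H Ω 3 :=
    isMultiplyPretransitive_of_le (n := p + 2) (by omega) (by rw [hcardΩ]; omega)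
  -- a point different from `α`
  obtain ⟨β, hβ⟩ : ∃ β : Ω, β ≠ α := by
    have : 1 < Fintype.card Ω := by rw [c.card]; omega
    exact Fintype.exists_ne_of_one_lt_card this α
  obtain ⟨x₀, hx₀, hx₀β⟩ : ∃ x ∈ P, x β ≠ β := by
    by_contra hcon
    push Not at hcon
    exact hβ (c.only β hcon)
  have hγα : x₀ β ≠ α := by
    intro h
    rw [← c.fixα x₀ hx₀] at h
    exact hβ (x₀.injective h)
  obtain ⟨k, hk⟩ := c.pg.card_orbit β
  obtain ⟨δ, hδO, hδα⟩ : ∃ δ : Ω, δ ∉ orbit P β ∧ δ ≠ α := by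
    by_contra hcon
    push Not at hcon
    have hαO : α ∉ orbit P β := by
      rintro ⟨x, hx⟩
      have hx' : x.1 β = α := hx
      rw [← c.fixα x.1 x.2] at hx'
      exact hβ (x.1.injective hx')
    have e1 : insert α (orbit P β) = Set.univ := by
      ext δ
      simp only [Set.mem_insert_iff, Set.mem_univ, iff_true]
      by_cases h : δ ∈ orbit P β
      · exact Or.inr h
      · exact Or.inl (hcon δ h)
    have e2 := Set.ncard_insert_of_notMem hαO (Set.toFinite _)
    rw [e1, Set.ncard_univ, hcardΩ, ← Nat.card_coe_set_eq, hk] at e2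
    have e3 : p ^ k = 2 * p := by omega
    rcases k with _ | _ | k
    · simp at e3; omega
    · simp at e3; omega
    · have e4 : p * p ^ (k + 1) = p * 2 := by rw [← pow_succ', e3, mul_comm]
      have e5 : p ^ (k + 1) = 2 := Nat.eq_of_mul_eq_mul_left hp.out.pos e4
      have e6 : p ∣ 2 := by rw [← e5]; exact dvd_pow_self p (by omega)
      exact hp2 ((Nat.prime_dvd_prime_iff_eq hp.out Nat.prime_two).mp e6)
  have hδβ : δ ≠ β := fun h => hδO (by rw [h]; exact mem_orbit_self β)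
  obtain ⟨h, h1, h2, h4⟩ := t3 h3 hβ.symm hγα.symm hx₀β.symm hβ.symm hδα.symm hδβ.symm
  apply hδO
  refine ⟨⟨h.1 * x₀ * h.1⁻¹, c.norm h.1 h.2 h1 x₀ hx₀⟩, ?_⟩
  change (h.1 * x₀ * h.1⁻¹) β = δ
  have h2' : h.1 β = β := h2
  have h4' : h.1 (x₀ β) = δ := h4
  rw [Equiv.Perm.mul_apply, Equiv.Perm.mul_apply, Equiv.Perm.inv_eq_iff_eq.mpr h2'.symm, h4']

/-- Every element of order `p` of `H` moves exactly `2 p` points. -/
theorem Cfg.supp (c : Cfg p P H α) (hp2 : p ≠ 2) (g : Equiv.Perm Ω) (hg : g ∈ H) (ho : orderOf g = p) :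
    g.support.card = 2 * p := by
  obtain ⟨⟨k, hk⟩, hpos⟩ := dvd_support_of_prime_order hp.out ho
  have hle : g.support.card ≤ 2 * p + 1 := by rw [← c.card]; exact Finset.card_le_univ _
  have hp1 := hp.out.one_lt
  have hk2 : k ≤ 2 := by
    by_contra hcon
    have : p * 3 ≤ p * k := Nat.mul_le_mul_left p (by omega)
    omega
  interval_cases k
  · omega
  · exfalso
    apply c.no_cycle hp2 g hg _ (by omega)
    apply Equiv.Perm.isCycle_of_prime_order (by rw [ho]; exact hp.out)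
    rw [ho]; omega
  · omega

theorem Cfg.card_dvd (c : Cfg p P H α) (hp2 : p ≠ 2) (R : Subgroup (Equiv.Perm Ω)) (hR : IsPGroup p R)
    (hRH : R ≤ H) (hRα : ∀ r ∈ R, r α = α) : Nat.card R ∣ p := by
  have hp1 := hp.out.one_lt
  obtain ⟨β, hβ⟩ : ∃ β : Ω, β ≠ α := by
    have : 1 < Fintype.card Ω := by rw [c.card]; omega
    exact Fintype.exists_ne_of_one_lt_card this α
  have hst : stabilizer R β = ⊥ := by
    rw [eq_bot_iff]
    intro r hr
    rw [Subgroup.mem_bot]
    by_contra hr1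
    obtain ⟨j, hj⟩ := (IsPGroup.iff_orderOf.mp hR) r
    have hj0 : j ≠ 0 := by
      rintro rfl
      rw [pow_zero, orderOf_eq_one_iff] at hj
      exact hr1 hj
    have ho : orderOf (r ^ (orderOf r / p)) = p :=
      orderOf_pow_orderOf_div (by rw [hj]; exact pow_ne_zero _ hp.out.ne_zero)
        (by rw [hj]; exact dvd_pow_self p hj0)
    set r' : R := r ^ (orderOf r / p) with hr'
    have ho' : orderOf (r' : Equiv.Perm Ω) = p := by rw [Subgroup.orderOf_coe, ho]
    have h1 := c.supp hp2 r' (hRH r'.2) ho'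
    have hα' : (r' : Equiv.Perm Ω) α = α := hRα _ r'.2
    have hβ' : (r' : Equiv.Perm Ω) β = β := by
      have : r' ∈ stabilizer R β := (stabilizer R β).pow_mem hr _
      exact this
    have h2 : (r' : Equiv.Perm Ω).support ⊆ (Finset.univ.erase α).erase β := by
      intro y hy
      rw [Equiv.Perm.mem_support] at hy
      simp only [Finset.mem_erase, Finset.mem_univ, and_true]
      exact ⟨fun h => hy (h ▸ hβ'), fun h => hy (h ▸ hα')⟩
    have h3 := Finset.card_le_card h2
    rw [Finset.card_erase_of_mem (by simp [hβ]), Finset.card_erase_of_mem (Finset.mem_univ _),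
      Finset.card_univ, c.card, h1] at h3
    omega
  have h1 := index_stabilizer R β
  rw [hst, Subgroup.index_bot, ← Nat.card_coe_set_eq] at h1
  have h2 : Nat.card (orbit R β) ≤ 2 * p + 1 := by
    rw [← c.card, ← Nat.card_eq_fintype_card]
    exact Nat.card_le_card_of_injective _ Subtype.val_injective
  obtain ⟨k, hk⟩ := IsPGroup.iff_card.mp hR
  rw [← h1, hk] at h2
  rw [hk]
  rcases k with _ | _ | k
  · simp
  · simp
  · exfalso
    have h3 : p ^ 2 ≤ p ^ (k + 1 + 1) := Nat.pow_le_pow_right hp.out.pos (by omega)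
    have h4 : 3 * p ≤ p ^ 2 := by
      rw [pow_two]
      exact Nat.mul_le_mul_right p (by omega)
    omega

theorem Cfg.exists_ne_one (c : Cfg p P H α) : ∃ x ∈ P, x ≠ 1 := by
  have hp1 := hp.out.one_lt
  obtain ⟨β, hβ⟩ : ∃ β : Ω, β ≠ α := by
    have : 1 < Fintype.card Ω := by rw [c.card]; omega
    exact Fintype.exists_ne_of_one_lt_card this α
  by_contra hcon
  push Not at hcon
  apply hβ
  apply c.only
  intro x hx
  rw [hcon x hx, Equiv.Perm.one_apply]

theorem Cfg.cardP (c : Cfg p P H α) (hp2 : p ≠ 2) : Nat.card P = p := by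
  have h1 := c.card_dvd hp2 P c.pg c.le c.fixα
  rcases (Nat.dvd_prime hp.out).mp h1 with h | h
  · exfalso
    obtain ⟨x, hx, hx1⟩ := c.exists_ne_one
    rw [Subgroup.card_eq_one] at h
    rw [h, Subgroup.mem_bot] at hx
    exact hx1 hx
  · exact h

theorem Cfg.orderOf_eq (c : Cfg p P H α) (hp2 : p ≠ 2) (x : Equiv.Perm Ω) (hx : x ∈ P) (hx1 : x ≠ 1) :
    orderOf x = p := by
  have h1 : orderOf (⟨x, hx⟩ : P) ∣ p := by
    rw [← c.cardP hp2]; exact orderOf_dvd_natCard _
  rw [← Subgroup.orderOf_coe] at h1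
  rcases (Nat.dvd_prime hp.out).mp h1 with h | h
  · exact absurd (orderOf_eq_one_iff.mp h) hx1
  · exact h

theorem Cfg.moves (c : Cfg p P H α) (hp2 : p ≠ 2) (x : Equiv.Perm Ω) (hx : x ∈ P) (hx1 : x ≠ 1) (y : Ω)
    (hy : y ≠ α) : x y ≠ y := by
  have h1 := c.supp hp2 x (c.le hx) (c.orderOf_eq hp2 x hx hx1)
  have h2 : x.support ⊆ Finset.univ.erase α := by
    intro z hz
    rw [Equiv.Perm.mem_support] at hz
    simp only [Finset.mem_erase, Finset.mem_univ, and_true]
    exact fun h => hz (h ▸ c.fixα x hx)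
  have h3 : x.support = Finset.univ.erase α := by
    apply Finset.eq_of_subset_of_card_le h2
    rw [Finset.card_erase_of_mem (Finset.mem_univ _), Finset.card_univ, c.card, h1]
    omega
  rw [← Equiv.Perm.mem_support, h3]
  simp [hy]

/-- In a minimal configuration, a normal subgroup of `H` containing `P` is everything. -/
theorem Cfg.top_of_normal (c : Cfg p P H α)
    (IH : ∀ K : Subgroup (Equiv.Perm Ω), Nat.card K < Nat.card H → ¬ Cfg p P K α)
    (K : Subgroup H) [hK : K.Normal] (hPK : ∀ x (hx : x ∈ P), (⟨x, c.le hx⟩ : H) ∈ K) : K = ⊤ := by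
  by_contra hKtop
  apply IH (K.map H.subtype)
  · rw [Subgroup.card_map_of_injective (Subgroup.subtype_injective _)]
    by_contra hcon
    exact hKtop (Subgroup.eq_top_of_le_card K (not_lt.mp hcon))
  · have hKbot : K ≠ ⊥ := by
      obtain ⟨x, hx, hx1⟩ := c.exists_ne_one
      intro h
      have := hPK x hx
      rw [h, Subgroup.mem_bot] at this
      exact hx1 (congrArg Subtype.val this)
    have hKt : IsPretransitive K Ω := normal_trans c.prim K hKbot
    refine ⟨c.card, c.pg, ?_, c.fixα, c.only, ?_, ?_⟩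
    · intro x hx
      exact ⟨⟨x, c.le hx⟩, hPK x hx, rfl⟩
    · intro β γ
      obtain ⟨k, hk⟩ := exists_smul_eq K β γ
      exact ⟨k.1.1, ⟨k.1, k.2, rfl⟩, hk⟩
    · rintro h ⟨h', -, rfl⟩ hα
      exact c.norm h'.1 h'.2 hα

theorem Cfg.no_transfer (c : Cfg p P H α)
    (IH : ∀ K : Subgroup (Equiv.Perm Ω), Nat.card K < Nat.card H → ¬ Cfg p P K α)
    (r : ℕ) [Fact r.Prime] (hr : r ≠ p) (S : Sylow r H)
    (hS : Subgroup.normalizer (S : Set H) ≤ Subgroup.centralizer (S : Set H)) : ¬ r ∣ Nat.card H := by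
  intro hdvd
  have hcomp := MonoidHom.ker_transferSylow_isComplement' S hS
  have hidx := hcomp.symm.index_eq_card
  have htop := c.top_of_normal IH (MonoidHom.transferSylow S hS).ker (by
    intro x hx
    apply mem_of_coprime_index
    rw [hidx]
    obtain ⟨k, hk⟩ := IsPGroup.iff_card.mp S.2
    obtain ⟨j, hj⟩ := (IsPGroup.iff_orderOf.mp c.pg) ⟨x, hx⟩
    have e : orderOf (⟨x, c.le hx⟩ : H) = p ^ j := by
      rw [← hj, ← Subgroup.orderOf_coe, ← Subgroup.orderOf_coe]
    rw [hk, e]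
    apply Nat.Coprime.pow
    exact (Nat.coprime_primes Fact.out hp.out).mpr hr)
  rw [htop, Subgroup.index_top] at hidx
  have h1 := S.dvd_card_of_dvd_card hdvd
  rw [← hidx, Nat.dvd_one] at h1
  exact (Fact.out : r.Prime).one_lt.ne' h1

theorem Cfg.le_alt (c : Cfg p P H α) (hp2 : p ≠ 2)
    (IH : ∀ K : Subgroup (Equiv.Perm Ω), Nat.card K < Nat.card H → ¬ Cfg p P K α) :
    H ≤ alternatingGroup Ω := by
  have htop := c.top_of_normal IH ((alternatingGroup Ω).subgroupOf H) (by
    intro x hx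
    rw [Subgroup.mem_subgroupOf, Equiv.Perm.mem_alternatingGroup]
    change Equiv.Perm.sign x = 1
    obtain ⟨j, hj⟩ := c.pg ⟨x, hx⟩
    have h1 : x ^ p ^ j = 1 := congrArg Subtype.val hj
    have h2 : (Equiv.Perm.sign x) ^ p ^ j = 1 := by rw [← map_pow, h1, map_one]
    rcases Int.units_eq_one_or (Equiv.Perm.sign x) with h | h
    · exact h
    · rw [h, ((hp.out.odd_of_ne_two hp2).pow).neg_one_pow] at h2
      exact absurd h2 (by decide))
  intro h hh
  have : (⟨h, hh⟩ : H) ∈ (alternatingGroup Ω).subgroupOf H := by rw [htop]; trivial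
  exact this

theorem Cfg.card_cent (c : Cfg p P H α) (hp2 : p ≠ 2)
    (IH : ∀ K : Subgroup (Equiv.Perm Ω), Nat.card K < Nat.card H → ¬ Cfg p P K α) :
    Nat.card (Subgroup.centralizer (P : Set (Equiv.Perm Ω)) ⊓ H : Subgroup (Equiv.Perm Ω)) ∣ p := by
  have hp1 := hp.out.one_lt
  set C : Subgroup (Equiv.Perm Ω) := Subgroup.centralizer (P : Set (Equiv.Perm Ω)) ⊓ H with hC
  have hCα : ∀ g ∈ C, g α = α := by
    intro g hg
    apply c.only
    intro x hx
    have h1 := Subgroup.mem_centralizer_iff.mp hg.1 x hx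
    have h2 := congrArg (fun f : Equiv.Perm Ω => f α) h1
    simpa [c.fixα x hx] using h2
  apply c.card_dvd hp2 C _ inf_le_right hCα
  obtain ⟨x, hx, hx1⟩ := c.exists_ne_one
  have hcard : Nat.card C = p ^ _ := Nat.eq_prime_pow_of_unique_prime_dvd Nat.card_pos.ne' (by
    intro r hr hrd
    by_contra hrp
    have : Fact r.Prime := ⟨hr⟩
    obtain ⟨g, hg⟩ := exists_prime_orderOf_dvd_card' r hrd
    have hg' : orderOf (g : Equiv.Perm Ω) = r := by rw [Subgroup.orderOf_coe, hg]
    obtain ⟨hd1, hpos⟩ := dvd_support_of_prime_order hr hg'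
    have hd2 : p ∣ (g : Equiv.Perm Ω).support.card := by
      apply dvd_support_of_commute (x := x)
      · rw [← c.orderOf_eq hp2 x hx hx1, pow_orderOf_eq_one]
      · exact Subgroup.mem_centralizer_iff.mp g.2.1 x hx
      · intro y hy
        exact c.moves hp2 x hx hx1 y (fun h => hy (h ▸ hCα g g.2))
    have hle : (g : Equiv.Perm Ω).support.card ≤ 2 * p := by
      have h2 : (g : Equiv.Perm Ω).support ⊆ Finset.univ.erase α := by
        intro z hz
        rw [Equiv.Perm.mem_support] at hz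
        simp only [Finset.mem_erase, Finset.mem_univ, and_true]
        exact fun h => hz (h ▸ hCα g g.2)
      have h3 := Finset.card_le_card h2
      rw [Finset.card_erase_of_mem (Finset.mem_univ _), Finset.card_univ, c.card] at h3
      omega
    have hd3 : p * r ∣ (g : Equiv.Perm Ω).support.card :=
      Nat.Coprime.mul_dvd_of_dvd_of_dvd ((Nat.coprime_primes hp.out hr).mpr (Ne.symm hrp)) hd2 hd1
    have h4 : p * r ≤ p * 2 := by
      have := Nat.le_of_dvd hpos hd3
      omega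
    have h5 : r ≤ 2 := Nat.le_of_mul_le_mul_left h4 hp.out.pos
    have hr2 : r = 2 := le_antisymm h5 hr.two_le
    subst hr2
    have h6 : (g : Equiv.Perm Ω).support.card = 2 * p := by
      have := Nat.le_of_dvd hpos hd3
      omega
    have hs := sign_of_invol hg' h6
    have halt := c.le_alt hp2 IH g.2.2
    rw [Equiv.Perm.mem_alternatingGroup] at halt
    rw [halt, (hp.out.odd_of_ne_two hp2).neg_one_pow] at hs
    exact absurd hs (by decide))
  exact IsPGroup.of_card hcard

theorem Cfg.false (c : Cfg p P H α) (hp2 : p ≠ 2) (hp5 : p ≠ 5) (h5 : 5 ∣ 2 * p + 1)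
    (h25 : ¬ 25 ∣ 2 * p + 1) (h5' : ¬ 5 ∣ p - 1)
    (IH : ∀ K : Subgroup (Equiv.Perm Ω), Nat.card K < Nat.card H → ¬ Cfg p P K α) : False := by
  have hp1 := hp.out.one_lt
  have := c.pretrans
  set N : Subgroup (Equiv.Perm Ω) := (stabilizer H α).map H.subtype with hN
  have hNmem : ∀ g, g ∈ N ↔ g ∈ H ∧ g α = α := by
    intro g
    constructor
    · rintro ⟨g', hg', rfl⟩; exact ⟨g'.2, hg'⟩
    · rintro ⟨h1, h2⟩; exact ⟨⟨g, h1⟩, h2, rfl⟩
  have hPN : P ≤ N := fun x hx => (hNmem x).mpr ⟨c.le hx, c.fixα x hx⟩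
  have hcardH : Nat.card H = (2 * p + 1) * Nat.card N := by
    rw [hN, Subgroup.card_map_of_injective (Subgroup.subtype_injective _), ← c.card,
      ← Nat.card_eq_fintype_card, ← index_stabilizer_of_transitive H α, mul_comm, Subgroup.card_mul_index]
  let P₀ : Subgroup N := P.subgroupOf N
  have hP₀n : P₀.Normal :=
    ⟨fun x hx g => c.norm g.1 ((hNmem _).mp g.2).1 ((hNmem _).mp g.2).2 x.1 hx⟩
  have hP₀card : Nat.card P₀ = p := by
    rw [Nat.card_congr (Subgroup.subgroupOfEquivOfLe hPN).toEquiv, c.cardP hp2]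
  let φ : N →* MulAut P₀ := MulAut.conjNormal
  have hker : Nat.card φ.ker ∣ p := by
    refine dvd_trans ?_ (c.card_cent hp2 IH)
    rw [← Subgroup.card_map_of_injective (Subgroup.subtype_injective N) (K := φ.ker)]
    apply Subgroup.card_dvd_of_le
    rintro g ⟨g', hg', rfl⟩
    refine ⟨?_, ((hNmem _).mp g'.2).1⟩
    change (g' : Equiv.Perm Ω) ∈ Subgroup.centralizer (P : Set (Equiv.Perm Ω))
    rw [Subgroup.mem_centralizer_iff]
    intro x hx
    have h1 : φ g' ⟨⟨x, hPN hx⟩, hx⟩ = ⟨⟨x, hPN hx⟩, hx⟩ := by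
      rw [MonoidHom.mem_ker.mp hg']; rfl
    have h2 : (g' : Equiv.Perm Ω) * x * (g' : Equiv.Perm Ω)⁻¹ = x :=
      congrArg (fun z : P₀ => ((z : N) : Equiv.Perm Ω)) h1
    change x * (g' : Equiv.Perm Ω) = (g' : Equiv.Perm Ω) * x
    rw [← mul_inv_eq_iff_eq_mul.mp h2]
  have hcyc : IsCyclic P₀ := isCyclic_of_prime_card hP₀card
  have hAut : Nat.card (MulAut P₀) = p - 1 := by
    rw [IsCyclic.card_mulAut, hP₀card, Nat.totient_prime hp.out]
  have hrange : Nat.card φ.range ∣ p - 1 := by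
    rw [← hAut]; exact Subgroup.card_subgroup_dvd_card _
  have hcardN : Nat.card N ∣ p * (p - 1) := by
    rw [← Subgroup.card_mul_index φ.ker, Subgroup.index_ker]
    exact Nat.mul_dvd_mul hker hrange
  have hodd : ¬ 2 ∣ Nat.card H := by
    intro h2
    have : Fact (Nat.Prime 2) := ⟨Nat.prime_two⟩
    obtain ⟨S₀⟩ : Nonempty (Sylow 2 H) := inferInstance
    apply c.no_transfer IH 2 (Ne.symm hp2) S₀ _ h2
    apply IsCyclic.normalizer_le_centralizer ((Nat.minFac_eq_two_iff _).mpr h2)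
    obtain ⟨β, hβ⟩ := S₀.2.nonempty_fixed_point_of_prime_not_dvd_card Ω
      (by rw [Nat.card_eq_fintype_card, c.card]; omega)
    obtain ⟨h, hh, hhβ⟩ := c.trans β α
    let θ : S₀ →* N :=
      { toFun := fun s => ⟨h * s.1.1 * h⁻¹, (hNmem _).mpr
          ⟨H.mul_mem (H.mul_mem hh s.1.2) (H.inv_mem hh), by
            have h1 : s.1.1 β = β := hβ s
            rw [Equiv.Perm.mul_apply, Equiv.Perm.mul_apply, Equiv.Perm.inv_eq_iff_eq.mpr hhβ.symm, h1, hhβ]⟩⟩
        map_one' := Subtype.ext (by simp)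
        map_mul' := fun s t => Subtype.ext (by simp [mul_assoc]) }
    have hθ : Function.Injective θ := by
      intro s t hst
      have h1 : h * s.1.1 * h⁻¹ = h * t.1.1 * h⁻¹ := congrArg Subtype.val hst
      exact Subtype.ext (Subtype.ext (mul_left_cancel (mul_right_cancel h1)))
    have hψ : Function.Injective (φ.comp θ) := by
      rw [injective_iff_map_eq_one]
      intro s hs
      have h1 : θ s ∈ φ.ker := hs
      have h2 : orderOf (θ s) ∣ p := by
        have : orderOf (⟨θ s, h1⟩ : φ.ker) ∣ p := (orderOf_dvd_natCard _).trans hker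
        rwa [← Subgroup.orderOf_coe] at this
      rw [orderOf_injective θ hθ s] at h2
      obtain ⟨k, hk⟩ := (IsPGroup.iff_orderOf.mp S₀.2) s
      rw [hk] at h2
      rcases k with _ | k
      · rw [pow_zero, orderOf_eq_one_iff] at hk
        exact hk
      · exfalso
        have h3 : 2 ∣ p := (dvd_pow_self 2 (by omega)).trans h2
        exact hp2 ((Nat.prime_dvd_prime_iff_eq Nat.prime_two hp.out).mp h3).symm
    have : Fact (Nat.card P₀).Prime := ⟨by rw [hP₀card]; exact hp.out⟩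
    have : IsCyclic (MulAut P₀) := isCyclic_of_injective (IsCyclic.mulAutMulEquiv P₀).toMonoidHom
      (IsCyclic.mulAutMulEquiv P₀).injective
    exact isCyclic_of_injective (φ.comp θ) hψ
  have h5H : 5 ∣ Nat.card H := by rw [hcardH]; exact Dvd.dvd.mul_right h5 _
  have hpr5 : Nat.Prime 5 := by norm_num
  have : Fact (Nat.Prime 5) := ⟨hpr5⟩
  have h25H : ¬ 25 ∣ Nat.card H := by
    intro h
    rw [hcardH] at h
    obtain ⟨m, hm⟩ := h5
    rw [hm] at h h25
    have h1 : 5 * 5 ∣ 5 * (m * Nat.card N) := by rw [← mul_assoc]; exact h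
    have h2 : 5 ∣ m * Nat.card N := Nat.dvd_of_mul_dvd_mul_left (by norm_num) h1
    rcases (Nat.Prime.dvd_mul hpr5).mp h2 with h3 | h3
    · exact h25 (Nat.mul_dvd_mul_left 5 h3)
    · rcases (Nat.Prime.dvd_mul hpr5).mp (h3.trans hcardN) with h4 | h4
      · exact hp5 ((Nat.prime_dvd_prime_iff_eq hpr5 hp.out).mp h4).symm
      · exact h5' h4
  obtain ⟨Q⟩ : Nonempty (Sylow 5 H) := inferInstance
  apply c.no_transfer IH 5 (Ne.symm hp5) Q _ h5H
  have hQcard : Nat.card Q = 5 := by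
    obtain ⟨k, hk⟩ := IsPGroup.iff_card.mp Q.2
    have h1 := Q.dvd_card_of_dvd_card h5H
    have h2 : Nat.card Q ∣ Nat.card H := Subgroup.card_subgroup_dvd_card _
    rw [hk] at h1 h2 ⊢
    rcases k with _ | _ | k
    · simp at h1
    · simp
    · exfalso
      apply h25H
      refine dvd_trans ?_ h2
      exact ⟨5 ^ k, by ring⟩
  have key := Subgroup.card_dvd_of_injective _
    (QuotientGroup.kerLift_injective (Q : Subgroup H).normalizerMonoidHom)
  rw [Subgroup.normalizerMonoidHom_ker, ← Subgroup.index, ← Subgroup.relIndex] at key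
  refine Subgroup.relIndex_eq_one.mp (Nat.eq_one_of_dvd_coprimes ?_ dvd_rfl key)
  have : IsCyclic Q := isCyclic_of_prime_card hQcard
  rw [IsCyclic.card_mulAut, hQcard, Nat.totient_prime hpr5]
  apply Nat.Coprime.coprime_dvd_left <| Subgroup.relIndex_dvd_card ..
  apply Nat.Coprime.coprime_dvd_left <| Subgroup.card_subgroup_dvd_card _
  have : Nat.Coprime (Nat.card H) 2 := by
    rw [Nat.coprime_comm, Nat.Prime.coprime_iff_not_dvd Nat.prime_two]
    exact hodd
  exact Nat.Coprime.pow_right 2 this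

theorem no_cfg (hp2 : p ≠ 2) (hp5 : p ≠ 5) (h5 : 5 ∣ 2 * p + 1) (h25 : ¬ 25 ∣ 2 * p + 1)
    (h5' : ¬ 5 ∣ p - 1) :
    ∀ (n : ℕ) (H : Subgroup (Equiv.Perm Ω)), Nat.card H = n → ¬ Cfg p P H α := by
  intro n
  induction n using Nat.strong_induction_on with
  | _ n ih =>
    intro H hH c
    exact c.false hp2 hp5 h5 h25 h5' (fun K hK => ih (Nat.card K) (hH ▸ hK) K rfl)

end perm

/-- `2 p + 1` is not the number of Sylow `p`-subgroups of a finite group when `5` divides `2 p + 1`
exactly once (`p ≠ 2, 5`, `p ≢ 1 mod 5`). -/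
theorem card_sylow_ne {G : Type*} [Group G] [Finite G] (p : ℕ) [Fact p.Prime] (hp2 : p ≠ 2) (hp5 : p ≠ 5)
    (h5 : 5 ∣ 2 * p + 1) (h25 : ¬ 25 ∣ 2 * p + 1) (h5' : ¬ 5 ∣ p - 1) :
    Nat.card (Sylow p G) ≠ 2 * p + 1 := by
  classical
  intro hcard
  have : Fintype (Sylow p G) := Fintype.ofFinite _
  obtain ⟨P₀⟩ : Nonempty (Sylow p G) := inferInstance
  let φ : G →* Equiv.Perm (Sylow p G) := MulAction.toPermHom G (Sylow p G)
  apply no_cfg (Ω := Sylow p G) (P := (P₀ : Subgroup G).map φ) (α := P₀) hp2 hp5 h5 h25 h5' _ φ.range rfl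
  refine ⟨by rw [← Nat.card_eq_fintype_card, hcard], P₀.2.map φ, ?_, ?_, ?_, ?_, ?_⟩
  · rintro _ ⟨x, -, rfl⟩
    exact ⟨x, rfl⟩
  · rintro _ ⟨x, hx, rfl⟩
    change x • P₀ = P₀
    exact Sylow.smul_eq_iff_mem_normalizer.mpr (Subgroup.le_normalizer hx)
  · intro Q hQ
    have h1 : Q ∈ fixedPoints (P₀ : Subgroup G) (Sylow p G) := fun x => hQ (φ x) ⟨x, x.2, rfl⟩
    rw [P₀.2.sylow_mem_fixedPoints_iff] at h1
    exact Sylow.ext (P₀.is_maximal' Q.2 h1)
  · intro β γ
    obtain ⟨g, hg⟩ := exists_smul_eq G β γ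
    exact ⟨φ g, ⟨g, rfl⟩, hg⟩
  · rintro _ ⟨g, rfl⟩ hg _ ⟨x, hx, rfl⟩
    have hg' : g ∈ Subgroup.normalizer (P₀ : Set G) := Sylow.smul_eq_iff_mem_normalizer.mp hg
    exact ⟨g * x * g⁻¹, (Subgroup.mem_normalizer_iff.mp hg' x).mp hx, by simp⟩

end Cfsg.Agent.H5SylowNum
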