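import Mathlib
import Cfsg.Prelude.Def_ClassicalGeometry

set_option autoImplicit false

namespace Cfsg.Agent.H5Symp

open Matrix Cfsg

variable {F : Type*} [Field F] {m : ℕ}

local notation "Vm" => (Fin m ⊕ Fin m → F)

theorem mat_ext {ι : Type*} [Fintype ι] [DecidableEq ι] {M N : Matrix ι ι F}
    (h : ∀ x, M *ᵥ x = N *ᵥ x) : M = N := by
  apply Matrix.toLin'.injective
  ext1 x
  ext1
  simp [Matrix.toLin'_apply, h]

theorem form_add_left (u u' v : Vm) : sympForm m F (u + u') v = sympForm m F u v + sympForm m F u' v := by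
  simp [sympForm, add_dotProduct]

theorem form_add_right (u v v' : Vm) : sympForm m F u (v + v') = sympForm m F u v + sympForm m F u v' := by
  simp [sympForm, mulVec_add, dotProduct_add]

theorem form_smul_left (a : F) (u v : Vm) : sympForm m F (a • u) v = a * sympForm m F u v := by
  simp [sympForm, smul_dotProduct]

theorem form_smul_right (a : F) (u v : Vm) : sympForm m F u (a • v) = a * sympForm m F u v := by
  simp [sympForm, mulVec_smul, dotProduct_smul]

theorem form_neg_left (u v : Vm) : sympForm m F (-u) v = - sympForm m F u v := by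
  simp [sympForm, neg_dotProduct]

theorem form_neg_right (u v : Vm) : sympForm m F u (-v) = - sympForm m F u v := by
  simp [sympForm, mulVec_neg, dotProduct_neg]

theorem form_sub_left (u u' v : Vm) : sympForm m F (u - u') v = sympForm m F u v - sympForm m F u' v := by
  simp [sympForm, sub_dotProduct]

theorem form_sub_right (u v v' : Vm) : sympForm m F u (v - v') = sympForm m F u v - sympForm m F u v' := by
  simp [sympForm, mulVec_sub, dotProduct_sub]

theorem form_zero_left (v : Vm) : sympForm m F 0 v = 0 := by simp [sympForm]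

theorem form_zero_right (v : Vm) : sympForm m F v 0 = 0 := by simp [sympForm]

theorem form_swap (u v : Vm) : sympForm m F u v = - sympForm m F v u := by
  unfold sympForm
  rw [dotProduct_mulVec, dotProduct_comm, ← mulVec_transpose, J_transpose, neg_mulVec, dotProduct_neg]

theorem form_explicit (u v : Vm) : sympForm m F u v =
    ∑ i, (u (Sum.inr i) * v (Sum.inl i) - u (Sum.inl i) * v (Sum.inr i)) := by
  unfold sympForm J
  rw [dotProduct, Fintype.sum_sum_type]
  have h1 : ∀ i : Fin m, (fromBlocks (0 : Matrix (Fin m) (Fin m) F) (-1 : Matrix (Fin m) (Fin m) F) (1 : Matrix (Fin m) (Fin m) F) (0 : Matrix (Fin m) (Fin m) F) *ᵥ v) (Sum.inl i) = - v (Sum.inr i) := by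
    intro i
    simp [mulVec, dotProduct, Fintype.sum_sum_type, Matrix.one_apply]
  have h2 : ∀ i : Fin m, (fromBlocks (0 : Matrix (Fin m) (Fin m) F) (-1 : Matrix (Fin m) (Fin m) F) (1 : Matrix (Fin m) (Fin m) F) (0 : Matrix (Fin m) (Fin m) F) *ᵥ v) (Sum.inr i) = v (Sum.inl i) := by
    intro i
    simp [mulVec, dotProduct, Fintype.sum_sum_type, Matrix.one_apply]
  simp only [h1, h2]
  rw [← Finset.sum_add_distrib]
  apply Finset.sum_congr rfl
  intro i _
  ring

theorem form_self (v : Vm) : sympForm m F v v = 0 := by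
  rw [form_explicit]
  apply Finset.sum_eq_zero
  intro i _
  ring

theorem tv_mulVec (v : Vm) (c : F) (x : Vm) :
    sympTransvection m v c *ᵥ x = x + (c * sympForm m F x v) • v := by
  unfold sympTransvection sympForm
  rw [add_mulVec, one_mulVec, smul_mulVec, vecMulVec_mulVec, dotProduct_comm x, mul_smul]
  congr 2
  ext i
  simp [mul_comm]

theorem form_mulVec (A : Matrix (Fin m ⊕ Fin m) (Fin m ⊕ Fin m) F) (u v : Vm) :
    sympForm m F (A *ᵥ u) (A *ᵥ v) = u ⬝ᵥ ((Aᵀ * J (Fin m) F * A) *ᵥ v) := by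
  unfold sympForm
  rw [← mulVec_mulVec, ← mulVec_mulVec, dotProduct_mulVec u, vecMul_transpose]

theorem mem_symp_iff (A : Matrix (Fin m ⊕ Fin m) (Fin m ⊕ Fin m) F) :
    A ∈ symplecticGroup (Fin m) F ↔ ∀ u v, sympForm m F (A *ᵥ u) (A *ᵥ v) = sympForm m F u v := by
  rw [SymplecticGroup.mem_iff']
  constructor
  · intro h u v
    rw [form_mulVec, h]; rfl
  · intro h
    ext i j
    have := h (Pi.single i 1) (Pi.single j 1)
    rw [form_mulVec] at this
    simpa [sympForm] using this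

theorem tv_mem (v : Vm) (c : F) : sympTransvection m v c ∈ symplecticGroup (Fin m) F := by
  rw [mem_symp_iff]
  intro x y
  rw [tv_mulVec, tv_mulVec]
  simp only [form_add_left, form_add_right, form_smul_left, form_smul_right, form_self]
  rw [form_swap v y]
  ring

theorem tv_mul (v : Vm) (c d : F) :
    sympTransvection m v c * sympTransvection m v d = sympTransvection m v (c + d) := by
  apply mat_ext
  intro x
  rw [← mulVec_mulVec, tv_mulVec, tv_mulVec, tv_mulVec]
  simp only [form_add_left, form_smul_left, form_self]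
  module

/-- transvection as an element of the symplectic group -/
def tv (v : Vm) (c : F) : symplecticGroup (Fin m) F := ⟨sympTransvection m v c, tv_mem v c⟩

/-- the subgroup generated by the transvections with centre in `W` -/
def TW (W : Submodule F Vm) : Subgroup (symplecticGroup (Fin m) F) :=
  Subgroup.closure {A | ∃ w ∈ W, ∃ c : F, (A : Matrix (Fin m ⊕ Fin m) (Fin m ⊕ Fin m) F) = sympTransvection m w c}

theorem TW_mono {W W' : Submodule F Vm} (h : W ≤ W') : TW W ≤ TW W' := by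
  apply Subgroup.closure_mono
  rintro A ⟨w, hw, c, hc⟩
  exact ⟨w, h hw, c, hc⟩

structure Good (W : Submodule F Vm) (t : symplecticGroup (Fin m) F) : Prop where
  mem : t ∈ TW W
  pres : ∀ x ∈ W, (t : Matrix (Fin m ⊕ Fin m) (Fin m ⊕ Fin m) F) *ᵥ x ∈ W
  fix : ∀ x, (∀ w ∈ W, sympForm m F x w = 0) → (t : Matrix (Fin m ⊕ Fin m) (Fin m ⊕ Fin m) F) *ᵥ x = x

theorem Good.mul {W : Submodule F Vm} {s t : symplecticGroup (Fin m) F} (hs : Good W s) (ht : Good W t) :
    Good W (s * t) where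
  mem := (TW W).mul_mem hs.mem ht.mem
  pres x hx := by
    rw [Submonoid.coe_mul, ← mulVec_mulVec]
    exact hs.pres _ (ht.pres x hx)
  fix x hx := by
    rw [Submonoid.coe_mul, ← mulVec_mulVec, ht.fix x hx, hs.fix x hx]

theorem good_tv {W : Submodule F Vm} {w : Vm} (hw : w ∈ W) (c : F) : Good W (tv w c) where
  mem := Subgroup.subset_closure ⟨w, hw, c, rfl⟩
  pres x hx := by
    change sympTransvection m w c *ᵥ x ∈ W
    rw [tv_mulVec]
    exact W.add_mem hx (W.smul_mem _ hw)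
  fix x hx := by
    change sympTransvection m w c *ᵥ x = x
    rw [tv_mulVec, hx w hw]
    simp

theorem stepA {W : Submodule F Vm} {u w : Vm} (hu : u ∈ W) (hw : w ∈ W) (h : sympForm m F u w ≠ 0) :
    ∃ t, Good W t ∧ (t : Matrix (Fin m ⊕ Fin m) (Fin m ⊕ Fin m) F) *ᵥ u = w := by
  refine ⟨tv (u - w) (sympForm m F u w)⁻¹, good_tv (W.sub_mem hu hw) _, ?_⟩
  change sympTransvection m (u - w) _ *ᵥ u = w
  rw [tv_mulVec, form_sub_right, form_self, zero_sub, mul_neg, inv_mul_cancel₀ h]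
  module

theorem step1 {W : Submodule F Vm} (hW : ∀ u ∈ W, u ≠ 0 → ∃ z ∈ W, sympForm m F u z ≠ 0)
    {u w : Vm} (hu : u ∈ W) (hw : w ∈ W) (hu0 : u ≠ 0) (hw0 : w ≠ 0) :
    ∃ t, Good W t ∧ (t : Matrix (Fin m ⊕ Fin m) (Fin m ⊕ Fin m) F) *ᵥ u = w := by
  by_cases h : sympForm m F u w ≠ 0
  · exact stepA hu hw h
  · have hz : ∃ z ∈ W, sympForm m F u z ≠ 0 ∧ sympForm m F w z ≠ 0 := by
      obtain ⟨z₁, hz₁, h₁⟩ := hW u hu hu0
      obtain ⟨z₂, hz₂, h₂⟩ := hW w hw hw0
      by_cases h3 : sympForm m F w z₁ = 0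
      · by_cases h4 : sympForm m F u z₂ = 0
        · refine ⟨z₁ + z₂, W.add_mem hz₁ hz₂, ?_, ?_⟩
          · rw [form_add_right, h4, add_zero]; exact h₁
          · rw [form_add_right, h3, zero_add]; exact h₂
        · exact ⟨z₂, hz₂, h4, h₂⟩
      · exact ⟨z₁, hz₁, h₁, h3⟩
    obtain ⟨z, hz, h1, h2⟩ := hz
    obtain ⟨t₁, ht₁, e₁⟩ := stepA hu hz h1
    have h2' : sympForm m F z w ≠ 0 := by rw [form_swap]; exact neg_ne_zero.mpr h2
    obtain ⟨t₂, ht₂, e₂⟩ := stepA hz hw h2'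
    refine ⟨t₂ * t₁, ht₂.mul ht₁, ?_⟩
    rw [Submonoid.coe_mul, ← mulVec_mulVec, e₁, e₂]

theorem stepB {W : Submodule F Vm} {u v v' : Vm} (hv : v ∈ W) (hv' : v' ∈ W)
    (h : sympForm m F v v' ≠ 0) (he : sympForm m F u v = sympForm m F u v') :
    ∃ t, Good W t ∧ (t : Matrix (Fin m ⊕ Fin m) (Fin m ⊕ Fin m) F) *ᵥ u = u ∧
      (t : Matrix (Fin m ⊕ Fin m) (Fin m ⊕ Fin m) F) *ᵥ v = v' := by
  refine ⟨tv (v - v') (sympForm m F v v')⁻¹, good_tv (W.sub_mem hv hv') _, ?_, ?_⟩
  · change sympTransvection m (v - v') _ *ᵥ u = u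
    rw [tv_mulVec, form_sub_right, he, sub_self]
    simp
  · change sympTransvection m (v - v') _ *ᵥ v = v'
    rw [tv_mulVec, form_sub_right, form_self, zero_sub, mul_neg, inv_mul_cancel₀ h]
    module

theorem step2 {W : Submodule F Vm} {u v v' : Vm} (hu : u ∈ W) (hv : v ∈ W) (hv' : v' ∈ W)
    (h1 : sympForm m F u v = 1) (h2 : sympForm m F u v' = 1) :
    ∃ t, Good W t ∧ (t : Matrix (Fin m ⊕ Fin m) (Fin m ⊕ Fin m) F) *ᵥ u = u ∧
      (t : Matrix (Fin m ⊕ Fin m) (Fin m ⊕ Fin m) F) *ᵥ v = v' := by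
  by_cases h : sympForm m F v v' ≠ 0
  · exact stepB hv hv' h (h1.trans h2.symm)
  · push Not at h
    have ha : sympForm m F v (u + v) ≠ 0 := by
      rw [form_add_right, form_self, add_zero, form_swap, h1]; simp
    have hb : sympForm m F (u + v) v' ≠ 0 := by
      rw [form_add_left, h2, h]; simp
    have hc : sympForm m F u (u + v) = 1 := by
      rw [form_add_right, form_self, h1, zero_add]
    obtain ⟨t₁, ht₁, e₁, e₁'⟩ := stepB (u := u) hv (W.add_mem hu hv) ha (h1.trans hc.symm)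
    obtain ⟨t₂, ht₂, e₂, e₂'⟩ := stepB (u := u) (W.add_mem hu hv) hv' hb (hc.trans h2.symm)
    refine ⟨t₂ * t₁, ht₂.mul ht₁, ?_, ?_⟩
    · rw [Submonoid.coe_mul, ← mulVec_mulVec, e₁, e₂]
    · rw [Submonoid.coe_mul, ← mulVec_mulVec, e₁', e₂']

theorem trans_pairs {W : Submodule F Vm} (hW : ∀ u ∈ W, u ≠ 0 → ∃ z ∈ W, sympForm m F u z ≠ 0)
    {u v u' v' : Vm} (hu : u ∈ W) (hv : v ∈ W) (hu' : u' ∈ W) (hv' : v' ∈ W)
    (h : sympForm m F u v = 1) (h' : sympForm m F u' v' = 1) :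
    ∃ t, Good W t ∧ (t : Matrix (Fin m ⊕ Fin m) (Fin m ⊕ Fin m) F) *ᵥ u = u' ∧
      (t : Matrix (Fin m ⊕ Fin m) (Fin m ⊕ Fin m) F) *ᵥ v = v' := by
  have hu0 : u ≠ 0 := by
    rintro rfl
    rw [form_zero_left] at h
    exact zero_ne_one h
  have hu0' : u' ≠ 0 := by
    rintro rfl
    rw [form_zero_left] at h'
    exact zero_ne_one h'
  obtain ⟨t₁, ht₁, e₁⟩ := step1 hW hu hu' hu0 hu0'
  have h3 : sympForm m F u' ((t₁ : Matrix (Fin m ⊕ Fin m) (Fin m ⊕ Fin m) F) *ᵥ v) = 1 := by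
    rw [← e₁, (mem_symp_iff _).mp t₁.2, h]
  obtain ⟨t₂, ht₂, e₂, e₂'⟩ := step2 hu' (ht₁.pres v hv) hv' h3 h'
  refine ⟨t₂ * t₁, ht₂.mul ht₁, ?_, ?_⟩
  · rw [Submonoid.coe_mul, ← mulVec_mulVec, e₁, e₂]
  · rw [Submonoid.coe_mul, ← mulVec_mulVec, e₂']

theorem form_single_inl (x : Vm) (i : Fin m) : sympForm m F x (Pi.single (Sum.inl i) 1) = x (Sum.inr i) := by
  rw [form_explicit, Finset.sum_eq_single i]
  · simp
  · intro j _ hj
    simp [Pi.single_apply, hj]
  · simp

theorem form_single_inr (x : Vm) (i : Fin m) : sympForm m F x (Pi.single (Sum.inr i) 1) = - x (Sum.inl i) := by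
  rw [form_explicit, Finset.sum_eq_single i]
  · simp
  · intro j _ hj
    simp [Pi.single_apply, hj]
  · simp

theorem nondeg_top : ∀ u ∈ (⊤ : Submodule F Vm), u ≠ 0 → ∃ z ∈ (⊤ : Submodule F Vm), sympForm m F u z ≠ 0 := by
  intro u _ hu
  have : ∃ j, u j ≠ 0 := by
    by_contra hcon
    push Not at hcon
    exact hu (funext hcon)
  obtain ⟨j, hj⟩ := this
  rcases j with i | i
  · exact ⟨Pi.single (Sum.inr i) 1, trivial, by rw [form_single_inr]; exact neg_ne_zero.mpr hj⟩
  · exact ⟨Pi.single (Sum.inl i) 1, trivial, by rw [form_single_inl]; exact hj⟩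

end Cfsg.Agent.H5Symp
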